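import Cfsg.Agent.OddHalf.SL.Index
import Cfsg.Agent.Nodes.RootsA
import Cfsg.Agent.KFacts.SLRow.Psl

-- merged: Cfsg.Agent.KFacts.SLRow.Hirr
section

/-!
# Orthogonal roots have neighbours (K-facts for S1765, D7, `q = 2`)

`IrrPerp cs h` : every root `b` orthogonal to a root `r` has a root `d` orthogonal to `r` with `(b, d) = 1`
[the hypothesis of `D7Out/HasPOf.hasP_two` and of `D7Ex/KTwo.perfTwo`].

* `hirr_of` : a criterion (the extended diagram is not used: `r` is a simple root at an end of the diagram);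
* `hirr_A` (`n ≥ 4`), `hirr_E6`, `hirr_E7`, `hirr_E8`.
-/

set_option autoImplicit false
set_option linter.unusedSectionVars false

namespace Cfsg.Agent.KFacts.SLRow.Hirr

open CoxeterSystem Cfsg.Agent.ChevalleyStructure.CoxeterGeom Cfsg.Agent.Tits.Roots Cfsg.Agent.Tits.Core
  Cfsg.Agent.Nodes.Reps Cfsg.Agent.Nodes.Coroot Cfsg.Agent.Nodes.SimplyLaced Cfsg.Agent.OddHalf.SL.Index
  Cfsg.Agent.KFacts.SLRow.Def Cfsg.Agent.Nodes.ZFam

section

variable {I W : Type*} [Fintype I] [DecidableEq I] [Group W] {M : CoxeterMatrix I}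
  (cs : CoxeterSystem M W) {A : I → I → ℤ} (h : IsCartan M A)

/-- Every root orthogonal to `r` has a neighbour orthogonal to `r`. -/
def HirrAt (r : I → ℤ) : Prop :=
  ∀ b, IsRoot cs h b → Bf A b r = 0 → ∃ d, IsRoot cs h d ∧ Bf A d r = 0 ∧ Bf A b d = 1

/-- Every root orthogonal to a root `r` has a neighbour orthogonal to `r`. -/
def IrrPerp : Prop := ∀ r, IsRoot cs h r → HirrAt cs h r

variable {cs h}

/-- The property moves along `60°` steps. -/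
theorem HirrAt.step [Finite W] (h4 : ∀ i j, M i j ≠ 4) (h6 : ∀ i j, M i j ≠ 6) {r s : I → ℤ}
    (hr : IsRoot cs h r) (hs : IsRoot cs h s) (hrs : Bf A r s = 1) (H : HirrAt cs h r) : HirrAt cs h s := by
  have R := roots cs h h4 h6
  have hv : IsRoot cs h (r - s) := R.sub_mem hr hs hrs
  obtain ⟨v, hv'⟩ : ∃ v, v = r - s := ⟨_, rfl⟩
  rw [← hv'] at hv
  have hvv := R.two v hv
  -- the reflection in `v`
  have hσ : ∀ x, IsRoot cs h x → IsRoot cs h (x - Bf A x v • v) := fun x hx => by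
    rw [bf_eq_cpr h4 h6 x hv]; exact isRoot_refl cs h hx hv
  have e1 : ∀ x y, Bf A (x - Bf A x v • v) (y - Bf A y v • v) = Bf A x y := fun x y => by
    rw [R.sub_left, R.sub_right, R.sub_right, bf_smul_left, bf_smul_left, R.symm x (Bf A y v • v),
      R.symm v (Bf A y v • v), bf_smul_left, bf_smul_left, hvv, R.symm v y, R.symm v x]
    ring
  have e2 : ∀ x, (x - Bf A x v • v) - Bf A (x - Bf A x v • v) v • v = x := fun x => by
    rw [R.sub_left, bf_smul_left, hvv, sub_sub, ← add_smul,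
      show Bf A x v + (Bf A x v - Bf A x v * 2) = 0 by ring, zero_smul, sub_zero]
  have hrv : Bf A r v = 1 := by
    rw [hv', R.sub_right, R.two r hr, hrs]; norm_num
  have er : r - Bf A r v • v = s := by
    rw [hrv, one_smul, hv', sub_sub_cancel]
  have es : s - Bf A s v • v = r := by
    rw [← er, e2]
  intro b hb hbs
  obtain ⟨d, hd, hdr, hbd⟩ := H (b - Bf A b v • v) (hσ b hb) (by rw [← es, e1, hbs])
  refine ⟨d - Bf A d v • v, hσ d hd, by rw [← er, e1, hdr], ?_⟩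
  rw [← hbd, ← e1 (b - Bf A b v • v) d, e2]

theorem cartan_adj (h : IsCartan M A) {i j : I} (hij : M i j = 3) : A i j = -1 := by
  have hne : i ≠ j := by
    rintro rfl
    rw [M.diagonal] at hij
    omega
  rcases h.rel i j hne with ⟨h0, h1, h2⟩ | ⟨h0, h1, h2⟩ | ⟨h0, -⟩ | ⟨h0, -⟩ <;> omega

theorem cartan_nadj (h : IsCartan M A) {i j : I} (hij : M i j = 2) : A i j = 0 := by
  have hne : i ≠ j := by
    rintro rfl
    rw [M.diagonal] at hij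
    omega
  rcases h.rel i j hne with ⟨h0, h1, h2⟩ | ⟨h0, h1, h2⟩ | ⟨h0, -⟩ | ⟨h0, -⟩ <;> omega

/-- **The criterion.** -/
theorem hirr_of [Finite W] (h4 : ∀ i j, M i j ≠ 4) (h6 : ∀ i j, M i j ≠ 6) (hc : Conn M)
    (h2 : 2 ≤ Fintype.card I) {i0 j0 : I} (h3 : M i0 j0 = 3)
    (hleaf : ∀ i, i ≠ i0 → i ≠ j0 → M i i0 = 2)
    (hnb : ∀ i, i ≠ i0 → i ≠ j0 → ∃ k, k ≠ i0 ∧ k ≠ j0 ∧ M k i = 3)
    (hlin : ∀ x : I → ℤ, (∀ i, i ≠ j0 → pairing A i x = 0) → x i0 = 1 → False) : IrrPerp cs h := by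
  have R := roots cs h h4 h6
  intro r hr
  refine ind (cs := cs) (h := h) h4 h6 hc h2 (P := HirrAt cs h) (isRoot_sr cs h i0) ?_
    (fun r s hr hs hrs H => H.step h4 h6 hr hs hrs) hr
  intro b hb hb0
  by_contra hcon
  push Not at hcon
  have hij : i0 ≠ j0 := by
    rintro rfl
    rw [M.diagonal] at h3
    omega
  -- `b` is orthogonal to the simple roots outside `i0`, `j0`
  have hi : ∀ i, i ≠ i0 → i ≠ j0 → Bf A b (sr i) = 0 := by
    intro i hi1 hi2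
    have hsi := isRoot_sr cs h i
    have o : Bf A (sr i) (sr i0) = 0 := by
      rw [bf_sr, pairing_sr']
      exact cartan_nadj h (by rw [M.symmetric]; exact hleaf i hi1 hi2)
    have b1 := R.le b hb _ hsi
    have b2 := R.ge hb hsi
    obtain ⟨k, hk1, hk2, hk3⟩ := hnb i hi1 hi2
    have hsk := isRoot_sr cs h k
    have ok : Bf A (sr k) (sr i0) = 0 := by
      rw [bf_sr, pairing_sr']
      exact cartan_nadj h (by rw [M.symmetric]; exact hleaf k hk1 hk2)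
    have ik : Bf A (sr i) (sr k) = -1 := by
      rw [bf_sr, pairing_sr']
      exact cartan_adj h hk3
    have n1 : Bf A b (sr i) ≠ 1 := fun e => hcon (sr i) hsi o e
    have n2 : Bf A b (sr i) ≠ -1 := fun e => hcon (-sr i) (R.neg_mem _ hsi) (by rw [R.neg_left, o]; rfl)
      (by rw [R.neg_right, e]; norm_num)
    have n3 : Bf A b (sr i) ≠ 2 := fun e => by
      have := R.eq b hb _ hsi e
      apply hcon (-sr k) (R.neg_mem _ hsk) (by rw [R.neg_left, ok]; rfl)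
      rw [this, R.neg_right, ik]; norm_num
    have n4 : Bf A b (sr i) ≠ -2 := fun e => by
      have := R.eq_neg hb hsi e
      apply hcon (sr k) hsk ok
      rw [this, R.neg_left, ik]; norm_num
    omega
  have hp : ∀ i, i ≠ j0 → pairing A i b = 0 := by
    intro i hi2
    rw [← bf_sr]
    by_cases hi1 : i = i0
    · rw [hi1, hb0]
    · exact hi i hi1 hi2
  -- the norm of `b`
  have hn : b j0 * pairing A j0 b = 2 := by
    rw [← R.two b hb]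
    unfold Bf
    rw [Finset.sum_eq_single j0]
    · intro j _ hj
      rw [hp j hj, mul_zero]
    · intro hj
      exact absurd (Finset.mem_univ _) hj
  -- the leaf
  have hl : 2 * b i0 = b j0 := by
    have e := hp i0 hij
    unfold pairing at e
    rw [← Finset.add_sum_erase _ _ (Finset.mem_univ i0),
      ← Finset.add_sum_erase _ _ (Finset.mem_erase.2 ⟨hij.symm, Finset.mem_univ j0⟩), Finset.sum_eq_zero, h.diag,
      cartan_adj h h3] at e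
    · omega
    · intro k hk
      rw [Finset.mem_erase, Finset.mem_erase] at hk
      rw [cartan_nadj h (by rw [M.symmetric]; exact hleaf k hk.2.1 hk.1), zero_mul]
  have hu : b i0 * pairing A j0 b = 1 := by
    rw [← hl, mul_assoc] at hn
    omega
  rcases Int.eq_one_or_neg_one_of_mul_eq_one hu with e | e
  · exact hlin b hp e
  · refine hlin (-b) (fun i hi => ?_) ?_
    · have := pairing_smul (A := A) i (-1) b
      rw [neg_one_smul, hp i hi] at this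
      rw [this]; norm_num
    · rw [Pi.neg_apply, e]; norm_num

end

/-! ### Exceptional types -/

theorem mat6 : ∀ i j, (if i = j then (2 : ℤ) else if CoxeterMatrix.E₆ i j = 3 then -1 else 0) =
    (![![2, 0, -1, 0, 0, 0], ![0, 2, 0, -1, 0, 0], ![-1, 0, 2, -1, 0, 0], ![0, -1, -1, 2, -1, 0], ![0, 0, 0, -1, 2, -1], ![0, 0, 0, 0, -1, 2]] :
      Fin 6 → Fin 6 → ℤ) i j := by
  intro i j
  fin_cases i <;> fin_cases j <;> rfl

theorem hirr_E6 {W : Type*} [Group W] [Finite W] (cs : CoxeterSystem CoxeterMatrix.E₆ W) {A : Fin 6 → Fin 6 → ℤ}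
    (h : IsCartan CoxeterMatrix.E₆ A) : IrrPerp cs h := by
  have h4 : ∀ i j, CoxeterMatrix.E₆ i j ≠ 4 := by intro i; fin_cases i <;> decide
  have h6 : ∀ i j, CoxeterMatrix.E₆ i j ≠ 6 := by intro i; fin_cases i <;> decide
  refine hirr_of (i0 := 0) (j0 := 2) h4 h6
    (conn_of_parent ![0, 3, 1, 2, 3, 4] ![0, 3, 0, 2, 3, 4] (by decide) (by decide) (by decide)) (by norm_num) rfl
    (by intro i; fin_cases i <;> decide)
    (fun i => ?_) (fun x hx h0 => ?_)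
  · intro h1 h2
    refine ⟨(![0, 3, 0, 1, 3, 4] : Fin 6 → Fin 6) i, ?_, ?_, ?_⟩ <;> revert h1 h2 <;> revert i <;> decide
  · have hA : ∀ i j, A i j = (![![2, 0, -1, 0, 0, 0], ![0, 2, 0, -1, 0, 0], ![-1, 0, 2, -1, 0, 0], ![0, -1, -1, 2, -1, 0], ![0, 0, 0, -1, 2, -1], ![0, 0, 0, 0, -1, 2]] :
        Fin 6 → Fin 6 → ℤ) i j :=
      fun i j => (cart_eq h4 h6 h i j).trans (mat6 i j)
    have e0 := hx 0 (by decide)
    have e1 := hx 1 (by decide)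
    have e3 := hx 3 (by decide)
    have e4 := hx 4 (by decide)
    have e5 := hx 5 (by decide)
    simp [pairing, Fin.sum_univ_six, hA] at e0 e1 e3 e4 e5
    omega

theorem mat7 : ∀ i j, (if i = j then (2 : ℤ) else if CoxeterMatrix.E₇ i j = 3 then -1 else 0) =
    (![![2, 0, -1, 0, 0, 0, 0], ![0, 2, 0, -1, 0, 0, 0], ![-1, 0, 2, -1, 0, 0, 0], ![0, -1, -1, 2, -1, 0, 0], ![0, 0, 0, -1, 2, -1, 0], ![0, 0, 0, 0, -1, 2, -1], ![0, 0, 0, 0, 0, -1, 2]] :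
      Fin 7 → Fin 7 → ℤ) i j := by
  intro i j
  fin_cases i <;> fin_cases j <;> rfl

theorem hirr_E7 {W : Type*} [Group W] [Finite W] (cs : CoxeterSystem CoxeterMatrix.E₇ W) {A : Fin 7 → Fin 7 → ℤ}
    (h : IsCartan CoxeterMatrix.E₇ A) : IrrPerp cs h := by
  have h4 : ∀ i j, CoxeterMatrix.E₇ i j ≠ 4 := by intro i; fin_cases i <;> decide
  have h6 : ∀ i j, CoxeterMatrix.E₇ i j ≠ 6 := by intro i; fin_cases i <;> decide
  refine hirr_of (i0 := 0) (j0 := 2) h4 h6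
    (conn_of_parent ![0, 3, 1, 2, 3, 4, 5] ![0, 3, 0, 2, 3, 4, 5] (by decide) (by decide) (by decide)) (by norm_num) rfl
    (by intro i; fin_cases i <;> decide)
    (fun i => ?_) (fun x hx h0 => ?_)
  · intro h1 h2
    refine ⟨(![0, 3, 0, 1, 3, 4, 5] : Fin 7 → Fin 7) i, ?_, ?_, ?_⟩ <;> revert h1 h2 <;> revert i <;> decide
  · have hA : ∀ i j, A i j = (![![2, 0, -1, 0, 0, 0, 0], ![0, 2, 0, -1, 0, 0, 0], ![-1, 0, 2, -1, 0, 0, 0], ![0, -1, -1, 2, -1, 0, 0], ![0, 0, 0, -1, 2, -1, 0], ![0, 0, 0, 0, -1, 2, -1], ![0, 0, 0, 0, 0, -1, 2]] :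
        Fin 7 → Fin 7 → ℤ) i j :=
      fun i j => (cart_eq h4 h6 h i j).trans (mat7 i j)
    have e0 := hx 0 (by decide)
    have e1 := hx 1 (by decide)
    have e3 := hx 3 (by decide)
    have e4 := hx 4 (by decide)
    have e5 := hx 5 (by decide)
    have e6 := hx 6 (by decide)
    simp [pairing, Fin.sum_univ_seven, hA] at e0 e1 e3 e4 e5 e6
    omega

theorem mat8 : ∀ i j, (if i = j then (2 : ℤ) else if CoxeterMatrix.E₈ i j = 3 then -1 else 0) =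
    (![![2, 0, -1, 0, 0, 0, 0, 0], ![0, 2, 0, -1, 0, 0, 0, 0], ![-1, 0, 2, -1, 0, 0, 0, 0], ![0, -1, -1, 2, -1, 0, 0, 0], ![0, 0, 0, -1, 2, -1, 0, 0], ![0, 0, 0, 0, -1, 2, -1, 0], ![0, 0, 0, 0, 0, -1, 2, -1], ![0, 0, 0, 0, 0, 0, -1, 2]] :
      Fin 8 → Fin 8 → ℤ) i j := by
  intro i j
  fin_cases i <;> fin_cases j <;> rfl

theorem hirr_E8 {W : Type*} [Group W] [Finite W] (cs : CoxeterSystem CoxeterMatrix.E₈ W) {A : Fin 8 → Fin 8 → ℤ}
    (h : IsCartan CoxeterMatrix.E₈ A) : IrrPerp cs h := by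
  have h4 : ∀ i j, CoxeterMatrix.E₈ i j ≠ 4 := by intro i; fin_cases i <;> decide
  have h6 : ∀ i j, CoxeterMatrix.E₈ i j ≠ 6 := by intro i; fin_cases i <;> decide
  refine hirr_of (i0 := 0) (j0 := 2) h4 h6
    (conn_of_parent ![0, 3, 1, 2, 3, 4, 5, 6] ![0, 3, 0, 2, 3, 4, 5, 6] (by decide) (by decide) (by decide)) (by norm_num) rfl
    (by intro i; fin_cases i <;> decide)
    (fun i => ?_) (fun x hx h0 => ?_)
  · intro h1 h2
    refine ⟨(![0, 3, 0, 1, 3, 4, 5, 6] : Fin 8 → Fin 8) i, ?_, ?_, ?_⟩ <;> revert h1 h2 <;> revert i <;> decide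
  · have hA : ∀ i j, A i j = (![![2, 0, -1, 0, 0, 0, 0, 0], ![0, 2, 0, -1, 0, 0, 0, 0], ![-1, 0, 2, -1, 0, 0, 0, 0], ![0, -1, -1, 2, -1, 0, 0, 0], ![0, 0, 0, -1, 2, -1, 0, 0], ![0, 0, 0, 0, -1, 2, -1, 0], ![0, 0, 0, 0, 0, -1, 2, -1], ![0, 0, 0, 0, 0, 0, -1, 2]] :
        Fin 8 → Fin 8 → ℤ) i j :=
      fun i j => (cart_eq h4 h6 h i j).trans (mat8 i j)
    have e0 := hx 0 (by decide)
    have e1 := hx 1 (by decide)
    have e3 := hx 3 (by decide)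
    have e4 := hx 4 (by decide)
    have e5 := hx 5 (by decide)
    have e6 := hx 6 (by decide)
    have e7 := hx 7 (by decide)
    simp [pairing, Fin.sum_univ_eight, hA] at e0 e1 e3 e4 e5 e6 e7
    omega

/-! ### Type `A` -/

open Cfsg.Agent.LieRecognition.BNCox (cA cA_apply) in
theorem hirr_A {n : ℕ} (hn : 4 ≤ n) {W : Type*} [Group W] [Finite W] (cs : CoxeterSystem (cA n) W)
    {A : Fin n → Fin n → ℤ} (h : IsCartan (cA n) A) : IrrPerp cs h := by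
  have h4 : ∀ i j, cA n i j ≠ 4 := fun i j => (Psl.cA_ne i j).1
  have h6 : ∀ i j, cA n i j ≠ 6 := fun i j => (Psl.cA_ne i j).2
  have h3 : ∀ i j : Fin n, ((i : ℕ) + 1 = j ∨ (j : ℕ) + 1 = i) → cA n i j = 3 := by
    intro i j hij
    rw [cA_apply]
    unfold Cfsg.Agent.LieRecognition.CoxClass.mA
    split_ifs <;> omega
  refine hirr_of (i0 := ⟨0, by omega⟩) (j0 := ⟨1, by omega⟩) h4 h6 Psl.conn_cA (by simp; omega) (h3 _ _ (Or.inl rfl))
    (fun i h1 h2 => ?_) (fun i h1 h2 => ?_) (fun x hx h0 => ?_)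
  · have h1' : (i : ℕ) ≠ 0 := fun e => h1 (Fin.ext e)
    have h2' : (i : ℕ) ≠ 1 := fun e => h2 (Fin.ext e)
    rw [cA_apply]
    show (if (i : ℕ) = 0 then 1 else if (i : ℕ) + 1 = 0 ∨ 0 + 1 = (i : ℕ) then 3 else 2) = 2
    rw [if_neg h1', if_neg (by rintro (e | e) <;> omega)]
  · have h1' : (i : ℕ) ≠ 0 := fun e => h1 (Fin.ext e)
    have h2' : (i : ℕ) ≠ 1 := fun e => h2 (Fin.ext e)
    have hi := i.2
    by_cases hl : (i : ℕ) = 2
    · refine ⟨⟨3, by omega⟩, ?_, ?_, h3 _ _ (Or.inr ?_)⟩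
      · intro e; exact absurd (congrArg Fin.val e) (by norm_num)
      · intro e; exact absurd (congrArg Fin.val e) (by norm_num)
      · rw [hl]
    · refine ⟨⟨i - 1, by omega⟩, ?_, ?_, h3 _ _ (Or.inl ?_)⟩
      · intro e; have := congrArg Fin.val e; dsimp only at this; omega
      · intro e; have := congrArg Fin.val e; dsimp only at this; omega
      · dsimp only; omega
  · obtain ⟨g, hg⟩ : ∃ g : ℕ → ℤ, g = fun j => if hj : j < n then x ⟨j, hj⟩ else 0 := ⟨_, rfl⟩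
    have gx : x = fun k : Fin n => g k.val := by
      funext k
      rw [hg]
      dsimp only
      rw [dif_pos k.2]
    have gn : g n = 0 := by
      rw [hg]
      exact dif_neg (lt_irrefl n)
    have g0 : g 0 = 1 := by
      rw [gx] at h0
      exact h0
    have key : ∀ i, i < n → i ≠ 1 → 2 * g i - g (i + 1) - (if i = 0 then 0 else g (i - 1)) = 0 := by
      intro i hi h1
      have e := hx ⟨i, hi⟩ (fun e => h1 (congrArg Fin.val e))
      rw [gx, Cfsg.Agent.Nodes.RootsA.pairing_eq h ⟨i, hi⟩ g gn] at e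
      exact e
    have g1 : g 1 = 2 := by
      have := key 0 (by omega) (by omega)
      rw [if_pos rfl, g0] at this
      norm_num at this
      omega
    obtain ⟨c, hcc⟩ : ∃ c, c = g 1 - g 2 := ⟨_, rfl⟩
    have lin : ∀ k, k + 1 ≤ n → g (k + 1) = 2 - k * c ∧ (k + 2 ≤ n → g (k + 2) = 2 - (k + 1) * c) := by
      intro k
      induction k with
      | zero =>
        intro _
        refine ⟨by rw [g1]; norm_num, fun _ => ?_⟩
        rw [hcc, g1]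
        norm_num
      | succ k ih =>
        intro hk
        obtain ⟨i1, i2⟩ := ih (by omega)
        have i3 := i2 (by omega)
        refine ⟨by rw [show k + 1 + 1 = k + 2 from rfl, i3]; push_cast; ring, fun hk2 => ?_⟩
        have := key (k + 2) (by omega) (by omega)
        rw [if_neg (by omega), show k + 2 - 1 = k + 1 by omega, i1, i3] at this
        push_cast
        rw [show k + 1 + 2 = k + 2 + 1 from rfl]
        linear_combination -this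
    have e := (lin (n - 1) (by omega)).1
    rw [show n - 1 + 1 = n by omega, gn] at e
    have hd : ((n - 1 : ℕ) : ℤ) ∣ 2 := ⟨c, by omega⟩
    have := Int.le_of_dvd (by norm_num) hd
    omega

end Cfsg.Agent.KFacts.SLRow.Hirr

end

-- merged: Cfsg.Agent.KFacts.SLRow.DomE
section

/-!
# The dominant root of `E₆`, `E₇`, `E₈` (K-facts for S1765; helper158)

`dom_E6`, `dom_E7`, `dom_E8` : a root `r` with `(i, r) ≥ 0` for every simple `i` has `(j, r) = 1` for one node `j`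
(`1`, `0`, `7`) and `(i, r) = 0` for the others.
-/

set_option autoImplicit false
set_option linter.unusedSectionVars false

namespace Cfsg.Agent.KFacts.SLRow.DomE

open CoxeterSystem Cfsg.Agent.ChevalleyStructure.CoxeterGeom Cfsg.Agent.Tits.Roots Cfsg.Agent.Tits.Core
  Cfsg.Agent.Nodes.Reps Cfsg.Agent.Nodes.Coroot Cfsg.Agent.Nodes.SimplyLaced Cfsg.Agent.OddHalf.SL.Index
  Cfsg.Agent.KFacts.SLRow.Def Cfsg.Agent.Nodes.ZFam

theorem mul_le (a b c : ℤ) (h1 : 0 ≤ b) (h2 : 1 ≤ b → c ≤ a) : c * b ≤ a * b := by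
  rcases h1.eq_or_lt with rfl | h3
  · simp
  · exact mul_le_mul_of_nonneg_right (h2 (by omega)) h1

theorem arith8 {x0 x1 x2 x3 x4 x5 x6 x7 m0 m1 m2 m3 m4 m5 m6 m7 : ℤ}
    (e0 : m0 = 2 * x0 - x2) (e1 : m1 = 2 * x1 - x3) (e2 : m2 = 2 * x2 - x0 - x3)
    (e3 : m3 = 2 * x3 - x1 - x2 - x4) (e4 : m4 = 2 * x4 - x3 - x5) (e5 : m5 = 2 * x5 - x4 - x6)
    (e6 : m6 = 2 * x6 - x5 - x7) (e7 : m7 = 2 * x7 - x6)
    (h0 : 0 ≤ m0) (h1 : 0 ≤ m1) (h2 : 0 ≤ m2) (h3 : 0 ≤ m3) (h4 : 0 ≤ m4) (h5 : 0 ≤ m5) (h6 : 0 ≤ m6) (h7 : 0 ≤ m7)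
    (hn : x0 * m0 + x1 * m1 + x2 * m2 + x3 * m3 + x4 * m4 + x5 * m5 + x6 * m6 + x7 * m7 = 2) :
    m7 = 1 ∧ m0 = 0 ∧ m1 = 0 ∧ m2 = 0 ∧ m3 = 0 ∧ m4 = 0 ∧ m5 = 0 ∧ m6 = 0 := by
  have f0 : x0 = 4 * m0 + 5 * m1 + 7 * m2 + 10 * m3 + 8 * m4 + 6 * m5 + 4 * m6 + 2 * m7 := by omega
  have f1 : x1 = 5 * m0 + 8 * m1 + 10 * m2 + 15 * m3 + 12 * m4 + 9 * m5 + 6 * m6 + 3 * m7 := by omega
  have f2 : x2 = 7 * m0 + 10 * m1 + 14 * m2 + 20 * m3 + 16 * m4 + 12 * m5 + 8 * m6 + 4 * m7 := by omega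
  have f3 : x3 = 10 * m0 + 15 * m1 + 20 * m2 + 30 * m3 + 24 * m4 + 18 * m5 + 12 * m6 + 6 * m7 := by omega
  have f4 : x4 = 8 * m0 + 12 * m1 + 16 * m2 + 24 * m3 + 20 * m4 + 15 * m5 + 10 * m6 + 5 * m7 := by omega
  have f5 : x5 = 6 * m0 + 9 * m1 + 12 * m2 + 18 * m3 + 15 * m4 + 12 * m5 + 8 * m6 + 4 * m7 := by omega
  have f6 : x6 = 4 * m0 + 6 * m1 + 8 * m2 + 12 * m3 + 10 * m4 + 8 * m5 + 6 * m6 + 3 * m7 := by omega
  have f7 : x7 = 2 * m0 + 3 * m1 + 4 * m2 + 6 * m3 + 5 * m4 + 4 * m5 + 3 * m6 + 2 * m7 := by omega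
  have g0 := mul_le x0 m0 3 h0 (by omega)
  have g1 := mul_le x1 m1 3 h1 (by omega)
  have g2 := mul_le x2 m2 3 h2 (by omega)
  have g3 := mul_le x3 m3 3 h3 (by omega)
  have g4 := mul_le x4 m4 3 h4 (by omega)
  have g5 := mul_le x5 m5 3 h5 (by omega)
  have g6 := mul_le x6 m6 3 h6 (by omega)
  have g7 := mul_le x7 m7 2 h7 (by omega)
  have : m0 = 0 ∧ m1 = 0 ∧ m2 = 0 ∧ m3 = 0 ∧ m4 = 0 ∧ m5 = 0 ∧ m6 = 0 := by
    refine ⟨?_, ?_, ?_, ?_, ?_, ?_, ?_⟩ <;> linarith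
  obtain ⟨r0, r1, r2, r3, r4, r5, r6⟩ := this
  subst r0 r1 r2 r3 r4 r5 r6
  have hs : 2 * m7 ≤ 2 := by linarith
  have r7 : m7 = 1 := by
    rcases h7.eq_or_lt with h | h
    · rw [← h] at hn
      norm_num at hn
    · omega
  exact ⟨r7, rfl, rfl, rfl, rfl, rfl, rfl, rfl⟩

theorem arith7 {x0 x1 x2 x3 x4 x5 x6 m0 m1 m2 m3 m4 m5 m6 : ℤ}
    (e0 : m0 = 2 * x0 - x2) (e1 : m1 = 2 * x1 - x3) (e2 : m2 = 2 * x2 - x0 - x3)
    (e3 : m3 = 2 * x3 - x1 - x2 - x4) (e4 : m4 = 2 * x4 - x3 - x5) (e5 : m5 = 2 * x5 - x4 - x6)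
    (e6 : m6 = 2 * x6 - x5)
    (h0 : 0 ≤ m0) (h1 : 0 ≤ m1) (h2 : 0 ≤ m2) (h3 : 0 ≤ m3) (h4 : 0 ≤ m4) (h5 : 0 ≤ m5) (h6 : 0 ≤ m6)
    (hn : x0 * m0 + x1 * m1 + x2 * m2 + x3 * m3 + x4 * m4 + x5 * m5 + x6 * m6 = 2) :
    m0 = 1 ∧ m1 = 0 ∧ m2 = 0 ∧ m3 = 0 ∧ m4 = 0 ∧ m5 = 0 ∧ m6 = 0 := by
  have f0 : x0 = 2 * m0 + 2 * m1 + 3 * m2 + 4 * m3 + 3 * m4 + 2 * m5 + m6 := by omega
  have f1 : 2 * x1 = 4 * m0 + 7 * m1 + 8 * m2 + 12 * m3 + 9 * m4 + 6 * m5 + 3 * m6 := by omega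
  have f2 : x2 = 3 * m0 + 4 * m1 + 6 * m2 + 8 * m3 + 6 * m4 + 4 * m5 + 2 * m6 := by omega
  have f3 : x3 = 4 * m0 + 6 * m1 + 8 * m2 + 12 * m3 + 9 * m4 + 6 * m5 + 3 * m6 := by omega
  have f4 : 2 * x4 = 6 * m0 + 9 * m1 + 12 * m2 + 18 * m3 + 15 * m4 + 10 * m5 + 5 * m6 := by omega
  have f5 : x5 = 2 * m0 + 3 * m1 + 4 * m2 + 6 * m3 + 5 * m4 + 4 * m5 + 2 * m6 := by omega
  have f6 : 2 * x6 = 2 * m0 + 3 * m1 + 4 * m2 + 6 * m3 + 5 * m4 + 4 * m5 + 3 * m6 := by omega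
  have g0 := mul_le x0 m0 2 h0 (by omega)
  have g1 := mul_le x1 m1 3 h1 (by omega)
  have g2 := mul_le x2 m2 3 h2 (by omega)
  have g3 := mul_le x3 m3 3 h3 (by omega)
  have g4 := mul_le x4 m4 3 h4 (by omega)
  have g5 := mul_le x5 m5 3 h5 (by omega)
  have g6 := mul_le x6 m6 2 h6 (by omega)
  have : m1 = 0 ∧ m2 = 0 ∧ m3 = 0 ∧ m4 = 0 ∧ m5 = 0 := by
    refine ⟨?_, ?_, ?_, ?_, ?_⟩ <;> linarith
  obtain ⟨r1, r2, r3, r4, r5⟩ := this
  subst r1 r2 r3 r4 r5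
  have r6 : m6 = 0 := by
    have : 2 * m0 + 2 * m6 ≤ 2 := by linarith
    omega
  subst r6
  have r0 : m0 = 1 := by
    have : 2 * m0 + 2 * 0 ≤ 2 := by linarith
    rcases h0.eq_or_lt with h | h
    · rw [← h] at hn
      norm_num at hn
    · omega
  exact ⟨r0, rfl, rfl, rfl, rfl, rfl, rfl⟩

theorem arith6 {x0 x1 x2 x3 x4 x5 m0 m1 m2 m3 m4 m5 : ℤ}
    (e0 : m0 = 2 * x0 - x2) (e1 : m1 = 2 * x1 - x3) (e2 : m2 = 2 * x2 - x0 - x3)
    (e3 : m3 = 2 * x3 - x1 - x2 - x4) (e4 : m4 = 2 * x4 - x3 - x5) (e5 : m5 = 2 * x5 - x4)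
    (h0 : 0 ≤ m0) (h1 : 0 ≤ m1) (h2 : 0 ≤ m2) (h3 : 0 ≤ m3) (h4 : 0 ≤ m4) (h5 : 0 ≤ m5)
    (hn : x0 * m0 + x1 * m1 + x2 * m2 + x3 * m3 + x4 * m4 + x5 * m5 = 2) :
    m1 = 1 ∧ m0 = 0 ∧ m2 = 0 ∧ m3 = 0 ∧ m4 = 0 ∧ m5 = 0 := by
  have f0 : 3 * x0 = 4 * m0 + 3 * m1 + 5 * m2 + 6 * m3 + 4 * m4 + 2 * m5 := by omega
  have f1 : x1 = m0 + 2 * m1 + 2 * m2 + 3 * m3 + 2 * m4 + m5 := by omega
  have f2 : 3 * x2 = 5 * m0 + 6 * m1 + 10 * m2 + 12 * m3 + 8 * m4 + 4 * m5 := by omega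
  have f3 : x3 = 2 * m0 + 3 * m1 + 4 * m2 + 6 * m3 + 4 * m4 + 2 * m5 := by omega
  have f4 : 3 * x4 = 4 * m0 + 6 * m1 + 8 * m2 + 12 * m3 + 10 * m4 + 5 * m5 := by omega
  have f5 : 3 * x5 = 2 * m0 + 3 * m1 + 4 * m2 + 6 * m3 + 5 * m4 + 4 * m5 := by omega
  have g0 := mul_le x0 m0 2 h0 (by omega)
  have g1 := mul_le x1 m1 2 h1 (by omega)
  have g2 := mul_le x2 m2 3 h2 (by omega)
  have g3 := mul_le x3 m3 3 h3 (by omega)
  have g4 := mul_le x4 m4 3 h4 (by omega)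
  have g5 := mul_le x5 m5 2 h5 (by omega)
  have : m2 = 0 ∧ m3 = 0 ∧ m4 = 0 := by
    refine ⟨?_, ?_, ?_⟩ <;> linarith
  obtain ⟨r2, r3, r4⟩ := this
  subst r2 r3 r4
  have hs : 2 * m0 + 2 * m1 + 2 * m5 ≤ 2 := by linarith
  have r0 : m0 = 0 := by omega
  have r5 : m5 = 0 := by omega
  subst r0 r5
  have r1 : m1 = 1 := by
    rcases h1.eq_or_lt with h | h
    · rw [← h] at hn
      norm_num at hn
    · omega
  exact ⟨r1, rfl, rfl, rfl, rfl, rfl⟩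

section

variable {I W : Type*} [Fintype I] [DecidableEq I] [Group W] {M : CoxeterMatrix I}
  {cs : CoxeterSystem M W} {A : I → I → ℤ} {h : IsCartan M A}

/-- the norm -/
theorem norm [Finite W] (h4 : ∀ i j, M i j ≠ 4) (h6 : ∀ i j, M i j ≠ 6) {r : I → ℤ} (hr : IsRoot cs h r) :
    ∑ j, r j * pairing A j r = 2 := (roots cs h h4 h6).two r hr

theorem nonneg [Finite W] (h4 : ∀ i j, M i j ≠ 4) (h6 : ∀ i j, M i j ≠ 6) {r : I → ℤ} (hr : IsRoot cs h r)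
    (hd : ∀ i, 0 ≤ cpr cs h (sr i) r) (i : I) : 0 ≤ pairing A i r := by
  have := hd i
  rwa [← bf_eq_cpr h4 h6 _ hr, (roots cs h h4 h6).symm, bf_sr] at this

theorem bf_pairing [Finite W] (cs : CoxeterSystem M W) (h : IsCartan M A) (h4 : ∀ i j, M i j ≠ 4)
    (h6 : ∀ i j, M i j ≠ 6) (r : I → ℤ) (i : I) : Bf A (sr i) r = pairing A i r := by
  rw [(roots cs h h4 h6).symm, bf_sr]

end

theorem dom_E6 {W : Type*} [Group W] [Finite W] (cs : CoxeterSystem CoxeterMatrix.E₆ W) {A : Fin 6 → Fin 6 → ℤ}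
    (h : IsCartan CoxeterMatrix.E₆ A) {r : Fin 6 → ℤ} (hr : IsRoot cs h r) (hd : ∀ i, 0 ≤ cpr cs h (sr i) r) :
    Bf A (sr 1) r = 1 ∧ ∀ i, i ≠ 1 → Bf A (sr i) r = 0 := by
  have h4 : ∀ i j, CoxeterMatrix.E₆ i j ≠ 4 := by intro i; fin_cases i <;> decide
  have h6 : ∀ i j, CoxeterMatrix.E₆ i j ≠ 6 := by intro i; fin_cases i <;> decide
  have hA : ∀ i j, A i j = (![![2, 0, -1, 0, 0, 0], ![0, 2, 0, -1, 0, 0], ![-1, 0, 2, -1, 0, 0], ![0, -1, -1, 2, -1, 0], ![0, 0, 0, -1, 2, -1], ![0, 0, 0, 0, -1, 2]] :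
        Fin 6 → Fin 6 → ℤ) i j :=
      fun i j => (cart_eq h4 h6 h i j).trans (Hirr.mat6 i j)
  have hn := norm h4 h6 hr
  have hp := nonneg h4 h6 hr hd
  simp only [bf_pairing cs h h4 h6]
  rw [Fin.sum_univ_six] at hn
  have e0 : pairing A 0 r = 2 * r 0 - r 2 := by simp [pairing, Fin.sum_univ_six, hA]; ring
  have e1 : pairing A 1 r = 2 * r 1 - r 3 := by simp [pairing, Fin.sum_univ_six, hA]; ring
  have e2 : pairing A 2 r = 2 * r 2 - r 0 - r 3 := by simp [pairing, Fin.sum_univ_six, hA]; ring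
  have e3 : pairing A 3 r = 2 * r 3 - r 1 - r 2 - r 4 := by simp [pairing, Fin.sum_univ_six, hA]; ring
  have e4 : pairing A 4 r = 2 * r 4 - r 3 - r 5 := by simp [pairing, Fin.sum_univ_six, hA]; ring
  have e5 : pairing A 5 r = 2 * r 5 - r 4 := by simp [pairing, Fin.sum_univ_six, hA]; ring
  obtain ⟨k1, k0, k2, k3, k4, k5⟩ := arith6 e0 e1 e2 e3 e4 e5 (hp 0) (hp 1) (hp 2) (hp 3) (hp 4) (hp 5) hn
  refine ⟨k1, fun i hi => ?_⟩
  fin_cases i
  · exact k0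
  · exact absurd rfl hi
  · exact k2
  · exact k3
  · exact k4
  · exact k5

theorem dom_E7 {W : Type*} [Group W] [Finite W] (cs : CoxeterSystem CoxeterMatrix.E₇ W) {A : Fin 7 → Fin 7 → ℤ}
    (h : IsCartan CoxeterMatrix.E₇ A) {r : Fin 7 → ℤ} (hr : IsRoot cs h r) (hd : ∀ i, 0 ≤ cpr cs h (sr i) r) :
    Bf A (sr 0) r = 1 ∧ ∀ i, i ≠ 0 → Bf A (sr i) r = 0 := by
  have h4 : ∀ i j, CoxeterMatrix.E₇ i j ≠ 4 := by intro i; fin_cases i <;> decide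
  have h6 : ∀ i j, CoxeterMatrix.E₇ i j ≠ 6 := by intro i; fin_cases i <;> decide
  have hA : ∀ i j, A i j = (![![2, 0, -1, 0, 0, 0, 0], ![0, 2, 0, -1, 0, 0, 0], ![-1, 0, 2, -1, 0, 0, 0], ![0, -1, -1, 2, -1, 0, 0], ![0, 0, 0, -1, 2, -1, 0], ![0, 0, 0, 0, -1, 2, -1], ![0, 0, 0, 0, 0, -1, 2]] :
        Fin 7 → Fin 7 → ℤ) i j :=
      fun i j => (cart_eq h4 h6 h i j).trans (Hirr.mat7 i j)
  have hn := norm h4 h6 hr
  have hp := nonneg h4 h6 hr hd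
  simp only [bf_pairing cs h h4 h6]
  rw [Fin.sum_univ_seven] at hn
  have e0 : pairing A 0 r = 2 * r 0 - r 2 := by simp [pairing, Fin.sum_univ_seven, hA]; ring
  have e1 : pairing A 1 r = 2 * r 1 - r 3 := by simp [pairing, Fin.sum_univ_seven, hA]; ring
  have e2 : pairing A 2 r = 2 * r 2 - r 0 - r 3 := by simp [pairing, Fin.sum_univ_seven, hA]; ring
  have e3 : pairing A 3 r = 2 * r 3 - r 1 - r 2 - r 4 := by simp [pairing, Fin.sum_univ_seven, hA]; ring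
  have e4 : pairing A 4 r = 2 * r 4 - r 3 - r 5 := by simp [pairing, Fin.sum_univ_seven, hA]; ring
  have e5 : pairing A 5 r = 2 * r 5 - r 4 - r 6 := by simp [pairing, Fin.sum_univ_seven, hA]; ring
  have e6 : pairing A 6 r = 2 * r 6 - r 5 := by simp [pairing, Fin.sum_univ_seven, hA]; ring
  obtain ⟨k0, k1, k2, k3, k4, k5, k6⟩ :=
    arith7 e0 e1 e2 e3 e4 e5 e6 (hp 0) (hp 1) (hp 2) (hp 3) (hp 4) (hp 5) (hp 6) hn
  refine ⟨k0, fun i hi => ?_⟩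
  fin_cases i
  · exact absurd rfl hi
  · exact k1
  · exact k2
  · exact k3
  · exact k4
  · exact k5
  · exact k6

theorem dom_E8 {W : Type*} [Group W] [Finite W] (cs : CoxeterSystem CoxeterMatrix.E₈ W) {A : Fin 8 → Fin 8 → ℤ}
    (h : IsCartan CoxeterMatrix.E₈ A) {r : Fin 8 → ℤ} (hr : IsRoot cs h r) (hd : ∀ i, 0 ≤ cpr cs h (sr i) r) :
    Bf A (sr 7) r = 1 ∧ ∀ i, i ≠ 7 → Bf A (sr i) r = 0 := by
  have h4 : ∀ i j, CoxeterMatrix.E₈ i j ≠ 4 := by intro i; fin_cases i <;> decide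
  have h6 : ∀ i j, CoxeterMatrix.E₈ i j ≠ 6 := by intro i; fin_cases i <;> decide
  have hA : ∀ i j, A i j = (![![2, 0, -1, 0, 0, 0, 0, 0], ![0, 2, 0, -1, 0, 0, 0, 0], ![-1, 0, 2, -1, 0, 0, 0, 0], ![0, -1, -1, 2, -1, 0, 0, 0], ![0, 0, 0, -1, 2, -1, 0, 0], ![0, 0, 0, 0, -1, 2, -1, 0], ![0, 0, 0, 0, 0, -1, 2, -1], ![0, 0, 0, 0, 0, 0, -1, 2]] :
        Fin 8 → Fin 8 → ℤ) i j :=
      fun i j => (cart_eq h4 h6 h i j).trans (Hirr.mat8 i j)
  have hn := norm h4 h6 hr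
  have hp := nonneg h4 h6 hr hd
  simp only [bf_pairing cs h h4 h6]
  rw [Fin.sum_univ_eight] at hn
  have e0 : pairing A 0 r = 2 * r 0 - r 2 := by simp [pairing, Fin.sum_univ_eight, hA]; ring
  have e1 : pairing A 1 r = 2 * r 1 - r 3 := by simp [pairing, Fin.sum_univ_eight, hA]; ring
  have e2 : pairing A 2 r = 2 * r 2 - r 0 - r 3 := by simp [pairing, Fin.sum_univ_eight, hA]; ring
  have e3 : pairing A 3 r = 2 * r 3 - r 1 - r 2 - r 4 := by simp [pairing, Fin.sum_univ_eight, hA]; ring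
  have e4 : pairing A 4 r = 2 * r 4 - r 3 - r 5 := by simp [pairing, Fin.sum_univ_eight, hA]; ring
  have e5 : pairing A 5 r = 2 * r 5 - r 4 - r 6 := by simp [pairing, Fin.sum_univ_eight, hA]; ring
  have e6 : pairing A 6 r = 2 * r 6 - r 5 - r 7 := by simp [pairing, Fin.sum_univ_eight, hA]; ring
  have e7 : pairing A 7 r = 2 * r 7 - r 6 := by simp [pairing, Fin.sum_univ_eight, hA]; ring
  obtain ⟨k7, k0, k1, k2, k3, k4, k5, k6⟩ :=
    arith8 e0 e1 e2 e3 e4 e5 e6 e7 (hp 0) (hp 1) (hp 2) (hp 3) (hp 4) (hp 5) (hp 6) (hp 7) hn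
  refine ⟨k7, fun i hi => ?_⟩
  fin_cases i
  · exact k0
  · exact k1
  · exact k2
  · exact k3
  · exact k4
  · exact k5
  · exact k6
  · exact absurd rfl hi

end Cfsg.Agent.KFacts.SLRow.DomE

end
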