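import Cfsg.Agent.Nodes.WittInst
import Cfsg.Agent.KFacts.Mult.LacedRGD
import Cfsg.Agent.KFacts.SLRow.Def
import Cfsg.Agent.KFacts.RgdCent

-- merged: Cfsg.Agent.KFacts.SLRow.TypeD
section

/-!
# Root elements of type `D_{n+2}` in characteristic 2 (helper827)

A hyperbolic Witt frame `Fr` (`Fin (n+2)` planes, no admissible elements) over a field of characteristic 2 with
`σ = 1`, `ε = 1`.

* `dl a c` : the inner product of `wt a` and `wt c`; `bf_wt` : the Cartan form in `ε`-coordinates;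
* `eD Fr x t` : the root element of the root `x`, `eD_eq`; `comm_eD`, `commute_eD`, `add_eD`;
* `sysD` : `Laced.Sys`.
-/

set_option autoImplicit false
set_option linter.unusedSectionVars false

namespace Cfsg.Agent.KFacts.SLRow.TypeD

open CoxeterSystem Cfsg.Agent.ChevalleyStructure.CoxeterGeom Cfsg.Agent.Tits.Roots Cfsg.Agent.Tits.Core
  Cfsg.Agent.Tits.RootComb Cfsg.Agent.Nodes.Comb Cfsg.Agent.Nodes.Reps Cfsg.Agent.Nodes.BNOf
  Cfsg.Agent.OddHalf.SL.Index Cfsg.Agent.KFacts.Mult.Laced Cfsg.Agent.KFacts.Mult.LacedRGD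
open Cfsg.Agent.Nodes.TypeC (wt wt_apply ng ng_ng ng_fst ng_snd wt_ng)
open Cfsg.Agent.Nodes.TypeD
open Cfsg.Agent.TitsThree Cfsg.Agent.TitsThree.Siegel Cfsg.Agent.TitsThree.WittFrame
  Cfsg.Agent.TitsThree.WittWeyl
open scoped commutatorElement

section Comb

variable {n : ℕ}

/-- the inner product of two signed indices -/
def dl (a c : Fin (n + 2) × Bool) : ℤ := if a = c then 1 else if c = ng a then -1 else 0

theorem sum_mul_wt (u : Fin (n + 2) → ℤ) (a : Fin (n + 2) × Bool) :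
    ∑ k, u k * wt a k = (if a.2 then 1 else -1) * u a.1 := by
  rw [Finset.sum_eq_single a.1]
  · rw [wt_apply, if_pos rfl]; ring
  · intro k _ hk
    rw [wt_apply, if_neg hk, mul_zero]
  · intro h; exact absurd (Finset.mem_univ _) h

theorem sum_wt_wt (a c : Fin (n + 2) × Bool) : ∑ k, wt a k * wt c k = dl a c := by
  rw [sum_mul_wt, wt_apply]
  obtain ⟨i, s⟩ := a
  obtain ⟨j, t⟩ := c
  unfold dl ng
  cases s <;> cases t <;> by_cases h : j = i <;> simp_all [eq_comm]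

theorem Cf_eq_sum (i : Fin (n + 2)) (u : Fin (n + 2) → ℤ) : Cf i u = ∑ k, u k * bt i k := by
  unfold bt
  simp only [Pi.add_apply, mul_add, Finset.sum_add_distrib, sum_mul_wt]
  unfold Cf nx
  by_cases h : (i : ℕ) + 1 < n + 2
  · simp only [dif_pos h]
    simp
    ring
  · simp only [dif_neg h]
    simp

/-- The Cartan form in `ε`-coordinates. -/
theorem bf_ee (x y : Fin (n + 2) → ℤ) : Bf (A n) x y = ∑ k, ee x k * ee y k := by
  unfold Bf
  have e1 : ∀ i, y i * pairing (A n) i x = ∑ k, ee x k * (y i * bt i k) := by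
    intro i
    rw [← Cf_ee, Cf_eq_sum, Finset.mul_sum]
    exact Finset.sum_congr rfl fun k _ => by ring
  rw [Finset.sum_congr rfl fun i _ => e1 i, Finset.sum_comm]
  refine Finset.sum_congr rfl fun k _ => ?_
  rw [← Finset.mul_sum]
  congr 1
  unfold ee
  rw [Finset.sum_apply]
  exact Finset.sum_congr rfl fun i _ => by rw [Pi.smul_apply, smul_eq_mul]

theorem bf_wt {x y : Fin (n + 2) → ℤ} {a b c d : Fin (n + 2) × Bool} (ex : ee x = wt a + wt b)
    (ey : ee y = wt c + wt d) : Bf (A n) x y = dl a c + dl a d + dl b c + dl b d := by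
  rw [bf_ee, ex, ey]
  simp only [Pi.add_apply, add_mul, mul_add, Finset.sum_add_distrib, sum_wt_wt]
  ring

theorem dl_of_ne {a c : Fin (n + 2) × Bool} (h : a.1 ≠ c.1) : dl a c = 0 := by
  unfold dl
  rw [if_neg (fun e => h (by rw [e])), if_neg (fun e => h (by rw [e]; rfl))]

theorem dl_self (a : Fin (n + 2) × Bool) : dl a a = 1 := if_pos rfl

theorem ng_ne (a : Fin (n + 2) × Bool) : a ≠ ng a := by
  intro h
  have := congrArg Prod.snd h
  simp at this

theorem dl_ng (a : Fin (n + 2) × Bool) : dl a (ng a) = -1 := by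
  unfold dl
  rw [if_neg (ng_ne a), if_pos rfl]

theorem dl_cases (a c : Fin (n + 2) × Bool) : (a = c ∧ dl a c = 1) ∨ (c = ng a ∧ dl a c = -1) ∨
    (a.1 ≠ c.1 ∧ dl a c = 0) := by
  by_cases h : a.1 = c.1
  · rcases Cfsg.Agent.Nodes.WittRGD.eq_or_ng h with h1 | h1
    · subst h1; exact Or.inl ⟨rfl, dl_self _⟩
    · right; left
      have h2 : c = ng a := by rw [h1, ng_ng]
      subst h2
      exact ⟨rfl, dl_ng _⟩
  · exact Or.inr (Or.inr ⟨h, dl_of_ne h⟩)

/-- inner product `-1`: the two roots are `a + b` and `-b + d`. -/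
theorem exists_neg_one {a b c d : Fin (n + 2) × Bool} (hab : Ok a b) (hcd : Ok c d)
    (h : dl a c + dl a d + dl b c + dl b d = -1) : ∃ a' b' d', Ok a' b' ∧ Ok b' d' ∧ Ok a' d' ∧
      ((a' = a ∧ b' = b) ∨ (a' = b ∧ b' = a)) ∧ ((ng b' = c ∧ d' = d) ∨ (ng b' = d ∧ d' = c)) := by
  have hab' : a.1 ≠ b.1 := hab
  have hcd' : c.1 ≠ d.1 := hcd
  rcases dl_cases a c with ⟨h1, e1⟩ | ⟨h1, e1⟩ | ⟨h1, e1⟩ <;>
  rcases dl_cases a d with ⟨h2, e2⟩ | ⟨h2, e2⟩ | ⟨h2, e2⟩ <;>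
  rcases dl_cases b c with ⟨h3, e3⟩ | ⟨h3, e3⟩ | ⟨h3, e3⟩ <;>
  rcases dl_cases b d with ⟨h4, e4⟩ | ⟨h4, e4⟩ | ⟨h4, e4⟩ <;>
  rw [e1, e2, e3, e4] at h <;>
  first
  | (exfalso; omega)
  | (exfalso; subst_vars; simp_all; done)
  | exact ⟨b, a, d, hab.symm, h2, h4, Or.inr ⟨rfl, rfl⟩, Or.inl ⟨h1.symm, rfl⟩⟩
  | exact ⟨b, a, c, hab.symm, h1, h3, Or.inr ⟨rfl, rfl⟩, Or.inr ⟨h2.symm, rfl⟩⟩
  | exact ⟨a, b, d, hab, h4, h2, Or.inl ⟨rfl, rfl⟩, Or.inl ⟨h3.symm, rfl⟩⟩
  | exact ⟨a, b, c, hab, h3, h1, Or.inl ⟨rfl, rfl⟩, Or.inr ⟨h4.symm, rfl⟩⟩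

/-- non-negative inner product -/
theorem nonneg_cases {a b c d : Fin (n + 2) × Bool} (hab : Ok a b) (hcd : Ok c d)
    (h : 0 ≤ dl a c + dl a d + dl b c + dl b d) :
    (c ≠ ng a ∧ c ≠ ng b ∧ d ≠ ng a ∧ d ≠ ng b) ∨
      ∃ a' b', Ok a' b' ∧ ((a' = a ∧ b' = b) ∨ (a' = b ∧ b' = a)) ∧ ((a' = c ∧ ng b' = d) ∨ (a' = d ∧ ng b' = c)) := by
  have hab' : a.1 ≠ b.1 := hab
  have hcd' : c.1 ≠ d.1 := hcd
  by_cases h1 : c = ng a
  · right
    have e1 := dl_ng a
    have e2 : dl a d = 0 := dl_of_ne (by rw [h1] at hcd'; exact hcd')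
    have e3 : dl b c = 0 := dl_of_ne (by rw [h1]; exact hab'.symm)
    rw [h1, e1, e2, ← h1, e3] at h
    rcases dl_cases b d with ⟨h4, e4⟩ | ⟨h4, e4⟩ | ⟨h4, e4⟩
    · exact ⟨b, a, hab.symm, Or.inr ⟨rfl, rfl⟩, Or.inr ⟨h4, h1.symm⟩⟩
    · omega
    · omega
  by_cases h2 : c = ng b
  · right
    have e1 := dl_ng b
    have e2 : dl b d = 0 := dl_of_ne (by rw [h2] at hcd'; exact hcd')
    have e3 : dl a c = 0 := dl_of_ne (by rw [h2]; exact hab')
    rw [e3, h2, e1, e2] at h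
    rcases dl_cases a d with ⟨h4, e4⟩ | ⟨h4, e4⟩ | ⟨h4, e4⟩
    · exact ⟨a, b, hab, Or.inl ⟨rfl, rfl⟩, Or.inr ⟨h4, h2.symm⟩⟩
    · omega
    · omega
  by_cases h3 : d = ng a
  · right
    have e1 := dl_ng a
    have e2 : dl a c = 0 := dl_of_ne (by rw [h3] at hcd'; exact hcd'.symm)
    have e3 : dl b d = 0 := dl_of_ne (by rw [h3]; exact hab'.symm)
    rw [e2, e3, h3, e1] at h
    rcases dl_cases b c with ⟨h4, e4⟩ | ⟨h4, e4⟩ | ⟨h4, e4⟩
    · exact ⟨b, a, hab.symm, Or.inr ⟨rfl, rfl⟩, Or.inl ⟨h4, h3.symm⟩⟩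
    · omega
    · omega
  by_cases h4 : d = ng b
  · right
    have e1 := dl_ng b
    have e2 : dl b c = 0 := dl_of_ne (by rw [h4] at hcd'; exact hcd'.symm)
    have e3 : dl a d = 0 := dl_of_ne (by rw [h4]; exact hab')
    rw [e2, e3, h4, e1] at h
    rcases dl_cases a c with ⟨h5, e4⟩ | ⟨h5, e4⟩ | ⟨h5, e4⟩
    · exact ⟨a, b, hab, Or.inl ⟨rfl, rfl⟩, Or.inl ⟨h5, h4.symm⟩⟩
    · omega
    · omega
  exact Or.inl ⟨h1, h2, h3, h4⟩

end Comb

/-! ### Root elements -/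

section Frame

variable {F : Type*} [Field F] {V : Type*} [AddCommGroup V] [Module F V] {H : HForm F V} {n : ℕ}
  {Fr : Frame H (Fin (n + 2))}

/-- A hyperbolic frame of a quadratic form in characteristic two. -/
structure Hyp (Fr : Frame H (Fin (n + 2))) : Prop where
  sig : ∀ t, H.σ t = t
  eps : H.ε = 1
  two : (2 : F) = 0
  adm : ∀ p : Fr.Adm, p = 1

theorem X_swap' (hH : Hyp Fr) {a b : Fin (n + 2) × Bool} (hab : Ok a b) (t : F) : Fr.X a b t = Fr.X b a t := by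
  have h1 : ∀ x, Fr.η x = 1 := fun x => by
    unfold Frame.η
    rw [hH.eps]
    split_ifs <;> rfl
  rw [Fr.X_swap hab, hH.sig, hH.eps, h1, h1, inv_one, one_mul, one_mul, one_mul]
  congr 1
  exact neg_eq_of_add_eq_zero_left (by rw [← two_mul, hH.two, zero_mul])

variable (Fr) in
open Classical in
/-- The root element of the root `x`. -/
noncomputable def eD (x : Fin (n + 2) → ℤ) (t : F) : V ≃ₗ[F] V :=
  if h : ∃ q : (Fin (n + 2) × Bool) × (Fin (n + 2) × Bool), Ok q.1 q.2 ∧ ee x = wt q.1 + wt q.2 then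
    Fr.X h.choose.1 h.choose.2 t else 1

theorem eD_eq (hH : Hyp Fr) {x : Fin (n + 2) → ℤ} {a b : Fin (n + 2) × Bool} (hab : Ok a b)
    (e : ee x = wt a + wt b) (t : F) : eD Fr x t = Fr.X a b t := by
  have h : ∃ q : (Fin (n + 2) × Bool) × (Fin (n + 2) × Bool), Ok q.1 q.2 ∧ ee x = wt q.1 + wt q.2 :=
    ⟨(a, b), hab, e⟩
  unfold eD
  rw [dif_pos h]
  obtain ⟨h1, h2⟩ := h.choose_spec
  rcases wt_add_eq h1 hab (h2.symm.trans e) with ⟨e1, e2⟩ | ⟨e1, e2⟩
  · rw [e1, e2]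
  · rw [e1, e2]
    exact X_swap' hH hab.symm t

theorem comm_X {a b d : Fin (n + 2) × Bool} (hab : Ok a b) (hbd : Ok b d) (had : Ok a d) (s t : F) :
    ⁅Fr.X a b s, Fr.X (ng b) d t⁆ = Fr.X a d (s * t) := by
  have e1 := Fr.conj_X_X hab hbd had s t
  rw [commutatorElement_def]
  have e3 : Fr.X a b s * Fr.X (ng b) d t * (Fr.X a b s)⁻¹ = _ := e1
  rw [e3]
  exact mul_inv_cancel_right _ _

theorem commute_same (hH : Hyp Fr) {a b : Fin (n + 2) × Bool} (hab : Ok a b) (s t : F) :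
    Commute (Fr.X a b s) (Fr.X a (ng b) t) := by
  have e1 := Fr.X_mul_X_same hab s t
  rw [hH.adm (Frame.Adm.tr _), Fr.Z_one, one_mul] at e1
  exact e1

variable {W : Type*} [Group W] (cs : CoxeterSystem (M n) W)

theorem M_ne (i j : Fin (n + 2)) : M n i j ≠ 4 ∧ M n i j ≠ 6 := by
  rw [M_apply]
  split_ifs <;> norm_num

/-- **The simply laced Steinberg relations.** -/
theorem sysD [Finite W] (hH : Hyp Fr) : Sys (Bf (A n)) {x | IsRoot cs (isCartan n) x} (eD Fr) where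
  roots := roots cs (isCartan n) (fun i j => (M_ne i j).1) (fun i j => (M_ne i j).2)
  add r hr s t := by
    obtain ⟨a, b, hab, e⟩ := exists_of_isRoot cs hr
    rw [eD_eq hH hab e, eD_eq hH hab e, eD_eq hH hab e, Fr.X_add]
  comm r hr s hs hrs u v := by
    obtain ⟨a, b, hab, e⟩ := exists_of_isRoot cs hr
    obtain ⟨c, d, hcd, e'⟩ := exists_of_isRoot cs hs
    rw [bf_wt e e'] at hrs
    obtain ⟨a', b', d', h1, h2, h3, h4, h5⟩ := exists_neg_one hab hcd hrs
    have f1 : ee r = wt a' + wt b' := by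
      rcases h4 with ⟨rfl, rfl⟩ | ⟨rfl, rfl⟩
      · exact e
      · exact e.trans (add_comm _ _)
    have f2 : ee s = wt (ng b') + wt d' := by
      rcases h5 with ⟨rfl, rfl⟩ | ⟨rfl, rfl⟩
      · exact e'
      · exact e'.trans (add_comm _ _)
    have f3 : ee (r + s) = wt a' + wt d' := by
      rw [ee_add, f1, f2, wt_ng]; abel
    have h2' : Ok (ng b') d' := h2
    rw [eD_eq hH h1 f1, eD_eq hH h2' f2, eD_eq hH h3 f3]
    exact comm_X h1 h2 h3 u v
  one r hr s hs hrs u v := by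
    obtain ⟨a, b, hab, e⟩ := exists_of_isRoot cs hr
    obtain ⟨c, d, hcd, e'⟩ := exists_of_isRoot cs hs
    rw [bf_wt e e'] at hrs
    rw [eD_eq hH hab e, eD_eq hH hcd e']
    rcases nonneg_cases hab hcd hrs with ⟨h1, h2, h3, h4⟩ | ⟨a', b', h1, h2, h3⟩
    · exact Fr.commute_XX (x := a) (y := b) (z := c) (u := d) h1 h2 h3 h4 u v
    · have k1 : Fr.X a b u = Fr.X a' b' u := by
        rcases h2 with ⟨rfl, rfl⟩ | ⟨rfl, rfl⟩
        · rfl
        · exact X_swap' hH hab u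
      have h1' : Ok a' (ng b') := h1
      have k2 : Fr.X c d v = Fr.X a' (ng b') v := by
        rcases h3 with ⟨rfl, rfl⟩ | ⟨rfl, rfl⟩
        · rfl
        · exact X_swap' hH hcd v
      rw [k1, k2]
      exact commute_same hH h1 u v

/-- the root groups -/
theorem mem_rg (hH : Hyp Fr) {x : Fin (n + 2) → ℤ} (hx : IsRoot cs (isCartan n) x) (g : V ≃ₗ[F] V) :
    g ∈ Cfsg.Agent.Nodes.WittRGDD.rg Fr x ↔ ∃ t, g = eD Fr x t := by
  obtain ⟨a, b, hab, e⟩ := exists_of_isRoot cs hx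
  rw [Cfsg.Agent.Nodes.WittRGDD.rg_eq Fr hab e]
  constructor
  · rintro ⟨t, rfl⟩
    exact ⟨t, (eD_eq hH hab e t).symm⟩
  · rintro ⟨t, rfl⟩
    exact ⟨t, eD_eq hH hab e t⟩

theorem X_eq_one {a b : Fin (n + 2) × Bool} (hab : Ok a b) {t : F} (h : Fr.X a b t = 1) : t = 0 := by
  have h1 := X_apply_neg Fr hab t
  rw [h] at h1
  have h2 : Fr.b (neg b) = Fr.b (neg b) + t • Fr.b a := h1
  have h3 : t • Fr.b a = 0 := by
    have := left_eq_add.1 h2
    exact this
  exact (smul_eq_zero.1 h3).resolve_right (Cfsg.Agent.Nodes.WittRGD.b_ne_zero a)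

end Frame

end Cfsg.Agent.KFacts.SLRow.TypeD

end

-- merged: Cfsg.Agent.KFacts.SLRow.OPlus
section

/-!
# `PΩ⁺_{2m}(q)`, `m ≥ 4`, `q` even: coordinates and simply laced data (helper827)

* `eE W x t` : the root elements of `E Q` (a Witt frame `W` of rank `n + 2` of a hyperbolic form);
* `sysK` : the Steinberg relations of their images, `mem_XD`, `inj_PO`, `card_XD`;
* `isSL_OPlus : IsSL (Nat.card F) m (POmega F (quadFormPlus m F))` (helper158's bundle).
-/

set_option autoImplicit false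
set_option linter.unusedSectionVars false

namespace Cfsg.Agent.KFacts.SLRow.OPlus

open Cfsg
open CoxeterSystem Cfsg.Agent.ChevalleyStructure.CoxeterGeom Cfsg.Agent.Tits.Roots Cfsg.Agent.Tits.Core
  Cfsg.Agent.Tits.RootComb Cfsg.Agent.Nodes.Comb Cfsg.Agent.Nodes.Reps Cfsg.Agent.Nodes.BNOf
  Cfsg.Agent.OddHalf.SL.Index Cfsg.Agent.KFacts.Mult.Laced Cfsg.Agent.KFacts.Mult.LacedRGD
open Cfsg.Agent.Nodes.TypeC (wt wt_apply ng ng_ng ng_fst ng_snd wt_ng)
open Cfsg.Agent.Nodes.TypeD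
open Cfsg.Agent.TitsThree Cfsg.Agent.TitsThree.Siegel Cfsg.Agent.TitsThree.WittFrame
  Cfsg.Agent.TitsThree.WittWeyl Cfsg.Agent.TitsThree.WBridge Cfsg.Agent.TitsThree.SiegelGen
  Cfsg.Agent.TitsThree.FrameCN
open Cfsg.Agent.LieClassical Cfsg.Agent.LieClassical.OrthCore Cfsg.Agent.LieClassical.OrthTrans
open Cfsg.Agent.LieClassical.OrthSimple Cfsg.Agent.LieClassical.OrthFinite
open Cfsg.Agent.LieClassical.OrthForms
open Cfsg.Agent.TitsThree.KSideO Cfsg.Agent.TitsThree.StdData Cfsg.Agent.Nodes.WittInst Cfsg.Agent.Nodes.RGDLib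
open Cfsg.Agent.KFacts.SLRow.TypeD Cfsg.Agent.KFacts.SLRow.Def
open scoped commutatorElement

/-- The image of a system. -/
theorem Sys.map {V K L L' : Type*} [AddCommGroup V] [Field K] [Group L] [Group L'] {B : V → V → ℤ} {Φ : Set V}
    {e : V → K → L} (S : Sys B Φ e) (f : L →* L') : Sys B Φ (fun x t => f (e x t)) where
  roots := S.roots
  add r hr a b := by rw [S.add r hr, map_mul]
  comm r hr s hs hrs a b := by rw [← map_commutatorElement, S.comm r hr s hs hrs]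
  one r hr s hs hrs a b := (S.one r hr s hs hrs a b).map f

variable {ι : Type} [Fintype ι] [DecidableEq ι] {F : Type*} [Field F] {Q : QuadraticForm F (ι → F)}

variable {n : ℕ} (W : WFrame (PO Q) (n + 2))

omit [Fintype ι] [DecidableEq ι] in
theorem hyp (h2 : (2 : F) = 0) (h0 : ∀ p : (toFrame W).Adm, p = 1) : Hyp (toFrame W) :=
  ⟨fun _ => rfl, rfl, h2, h0⟩

omit [Fintype ι] [DecidableEq ι] in
theorem eD_mem (x : Fin (n + 2) → ℤ) (t : F) : eD (toFrame W) x t ∈ E Q := by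
  unfold eD
  split_ifs
  · exact X_mem W _ _ _
  · exact one_mem _

/-- The root elements of `E Q`. -/
noncomputable def eE (x : Fin (n + 2) → ℤ) (t : F) : ↥(E Q) := ⟨eD (toFrame W) x t, eD_mem W x t⟩

variable {W} {C : Type*} [Group C] (cs : CoxeterSystem (M n) C) (h2 : (2 : F) = 0)
  (h0 : ∀ p : (toFrame W).Adm, p = 1) {K : Type*} [Group K] (φ : ↥(E Q) →* K)

include h2 h0

omit [Fintype ι] [DecidableEq ι] in
theorem sysE [Finite C] : Sys (Bf (A n)) {x | IsRoot cs (isCartan n) x} (eE W) :=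
  sys_restrict (fun _ _ => rfl) (sysD cs (hyp W h2 h0))

omit [Fintype ι] [DecidableEq ι] in
theorem sysK [Finite C] : Sys (Bf (A n)) {x | IsRoot cs (isCartan n) x} (fun x t => φ (eE W x t)) :=
  Sys.map (sysE cs h2 h0) φ

omit [Fintype ι] [DecidableEq ι] in
theorem mem_XD {x : Fin (n + 2) → ℤ} (hx : IsRoot cs (isCartan n) x) (g : K) :
    g ∈ XD W φ x ↔ ∃ t, g = φ (eE W x t) := by
  unfold XD
  constructor
  · rintro ⟨k, hk, rfl⟩
    obtain ⟨t, ht⟩ := (mem_rg cs (hyp W h2 h0) hx _).1 (Subgroup.mem_subgroupOf.1 hk)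
    exact ⟨t, congrArg φ (Subtype.ext ht)⟩
  · rintro ⟨t, rfl⟩
    exact ⟨_, Subgroup.mem_subgroupOf.2 ((mem_rg cs (hyp W h2 h0) hx _).2 ⟨t, rfl⟩), rfl⟩

omit [Fintype ι] [DecidableEq ι] in
/-- A root element with central image of rank at least three is trivial. -/
theorem eq_zero_of_center (hn : 1 ≤ n) {x : Fin (n + 2) → ℤ} (hx : IsRoot cs (isCartan n) x) {t : F}
    (h : eE W x t ∈ Subgroup.center ↥(E Q)) : t = 0 := by
  obtain ⟨a, b, hab, e⟩ := exists_of_isRoot cs hx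
  obtain ⟨d, hd⟩ : ∃ d : Fin (n + 2), d ∉ ({a.1, b.1} : Finset (Fin (n + 2))) := by
    by_contra hcon
    push Not at hcon
    have h3 := Finset.card_le_card (fun e _ => hcon e : (Finset.univ : Finset (Fin (n + 2))) ⊆ {a.1, b.1})
    rw [Finset.card_univ, Fintype.card_fin] at h3
    have h4 : ({a.1, b.1} : Finset (Fin (n + 2))).card ≤ 2 := Finset.card_le_two
    omega
  simp only [Finset.mem_insert, Finset.mem_singleton, not_or] at hd
  have had : Ok a (d, true) := fun h => hd.1 h.symm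
  have hbd : Ok b (d, true) := fun h => hd.2 h.symm
  have e1 := comm_X (Fr := toFrame W) hab hbd had t 1
  rw [mul_one] at e1
  have e2 := (Subgroup.mem_center_iff.1 h) ⟨(toFrame W).X (ng b) (d, true) 1, X_mem W _ _ _⟩
  have e3 : (toFrame W).X (ng b) (d, true) 1 * eD (toFrame W) x t = eD (toFrame W) x t * (toFrame W).X (ng b) (d, true) 1 :=
    congrArg Subtype.val e2
  rw [eD_eq (hyp W h2 h0) hab e] at e3
  rw [commutatorElement_eq_one_iff_mul_comm.2 e3.symm] at e1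
  exact X_eq_one had e1.symm

omit [Fintype ι] [DecidableEq ι] in
theorem inj_K (hφ : φ.ker ≤ Subgroup.center ↥(E Q)) (hn : 1 ≤ n) {x : Fin (n + 2) → ℤ}
    (hx : IsRoot cs (isCartan n) x) {t : F} (h : φ (eE W x t) = 1) : t = 0 :=
  eq_zero_of_center cs h2 h0 hn hx (hφ h)

omit [Fintype ι] [DecidableEq ι] in
theorem card_XD [Finite C] (hφ : φ.ker ≤ Subgroup.center ↥(E Q)) (hn : 1 ≤ n) {x : Fin (n + 2) → ℤ}
    (hx : IsRoot cs (isCartan n) x) : Nat.card ↥(XD W φ x) = Nat.card F := by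
  have S := sysK cs h2 h0 φ
  refine (Nat.card_congr (Equiv.ofBijective
    (fun t : F => (⟨φ (eE W x t), (mem_XD cs h2 h0 φ hx _).2 ⟨t, rfl⟩⟩ : ↥(XD W φ x)))
    ⟨fun t u htu => ?_, ?_⟩)).symm
  · have h3 : φ (eE W x t) = φ (eE W x u) := congrArg Subtype.val htu
    have h4 := S.add x hx t (-u)
    have h5 := S.add x hx u (-u)
    rw [add_neg_cancel, S.zero hx] at h5
    have h6 : φ (eE W x (t + -u)) = 1 := by
      rw [h4, h5]
      exact congrArg (· * φ (eE W x (-u))) h3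
    exact add_neg_eq_zero.1 (inj_K cs h2 h0 φ hφ hn hx h6)
  · rintro ⟨g, hg⟩
    obtain ⟨t, rfl⟩ := (mem_XD cs h2 h0 φ hx _).1 hg
    exact ⟨t, rfl⟩

omit h2 h0 in
/-- The diagram is connected. -/
theorem conn_D {n : ℕ} (hn : 1 ≤ n) : Conn (M n) := by
  refine conn_of_parent (fun i => (i : ℕ)) (fun i => ⟨if (i : ℕ) = n + 1 then n - 1 else (i : ℕ) - 1, by
    have := i.2
    split_ifs <;> omega⟩) ?_ ?_ ?_
  · intro i j hi hj
    exact Fin.ext (by omega)
  · intro i hi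
    show (if (i : ℕ) = n + 1 then n - 1 else (i : ℕ) - 1) < i
    split_ifs <;> omega
  · intro i hi
    have := i.2
    rw [M_apply]
    unfold Cfsg.Agent.Nodes.TypeD.Adj
    simp only [Fin.ext_iff]
    split_ifs <;> omega

omit h2 h0 in
theorem good_plus {n : ℕ} (hn : 1 ≤ n) (F : Type*) [Field F] [Finite F] : Good (plusForm (n + 2) F) := by
  apply good_of_finite (nondeg_plusForm (n + 2) F)
  rw [Module.finrank_fintype_fun_eq_card, Fintype.card_sum, Fintype.card_fin]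
  omega

omit h2 h0 in
/-- **`PΩ⁺_{2m}(q)`, `m ≥ 4`, `q` even: simply laced data.** -/
theorem isSL_OPlus {m : ℕ} (hm : 4 ≤ m) (F : Type*) [Field F] [Finite F] (h2 : (2 : F) = 0) :
    IsSL (Nat.card F) m (Cfsg.POmega F (Cfsg.quadFormPlus m F)) := by
  obtain ⟨n, rfl⟩ : ∃ n, m = n + 2 := ⟨m - 2, by omega⟩
  have : Fact (Nat.Prime 2) := ⟨Nat.prime_two⟩
  have : CharP F 2 := charP_two h2
  have : Fintype F := Fintype.ofFinite F
  rw [← coe_plusForm]
  have hG : Good (plusForm (n + 2) F) := good_plus (by omega) F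
  have hW : Finite (M n).Group := finite_W (M n).toCoxeterSystem
  have hs : IsSimpleGroup (Cfsg.POmega F ⇑(plusForm (n + 2) F)) := by
    apply OrthFinite.isSimpleGroup_POmega (nondeg_plusForm (n + 2) F)
    rw [Fintype.card_sum, Fintype.card_fin]
    omega
  have R := rgdD_model (wplus (n + 2) F) hG (amb_plus _) (adm_plus _) (p := 2) (M n).toCoxeterSystem
  have hgen := G1D_eq_top (wplus (n + 2) F) (toPOmega hG) (toPOmega_surjective hG) (adm_plus _) (M n).toCoxeterSystem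
  refine ⟨M n, A n, isCartan n, _, _, _, hW, R, le_top, hgen, ?_, conn_D (by omega), by rw [Fintype.card_fin]; omega,
    fun i j => (M_ne i j).1, fun i j => (M_ne i j).2, fun x hx => ?_⟩
  · refine RgdCent.noCent_of_center R hgen ?_
    rcases hs.eq_bot_or_eq_top_of_normal (Subgroup.center (Cfsg.POmega F ⇑(plusForm (n + 2) F))) inferInstance
      with h3 | h3
    · exact h3
    · exfalso
      have S := sysK (M n).toCoxeterSystem h2 (adm_plus (F := F) (n + 2)) (toPOmega hG)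
      have hR := S.roots
      have hr : sr (⟨0, by omega⟩ : Fin (n + 2)) ∈ {x | IsRoot (M n).toCoxeterSystem (isCartan n) x} :=
        isRoot_sr _ _ _
      obtain ⟨s, hs1, hs2⟩ := exists_one (fun i j => (M_ne i j).1) (fun i j => (M_ne i j).2) (conn_D (by omega))
        (by rw [Fintype.card_fin]; omega) hr
      have hs3 := hR.neg_mem s hs1
      have hs4 : Bf (A n) (-s) (sr (⟨0, by omega⟩ : Fin (n + 2))) = -1 := by rw [hR.neg_left, hs2]
      have h4 := S.comm _ hs3 _ hr hs4 1 1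
      rw [mul_one] at h4
      have h5 := inj_K _ h2 (adm_plus _) (toPOmega hG) (ker_toPOmega hG) (by omega) (hR.add _ hs3 _ hr hs4)
        (t := 1) (h4.symm.trans (commutatorElement_eq_one_iff_mul_comm.2
          (Subgroup.mem_center_iff.1 (h3 ▸ Subgroup.mem_top _) _)))
      exact one_ne_zero h5
  · exact card_XD _ h2 (adm_plus _) _ (ker_toPOmega hG) (by omega) hx

end Cfsg.Agent.KFacts.SLRow.OPlus

end
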